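import Groth.Agent.Lib.lead.GenFibreDim
import Groth.Agent.Lib.lead.FibreDimBC
import Groth.Agent.Lib.lead.ZeroLocusDim
import Groth.Agent.Lib.Helper24.OpenConst.Main4922
import Groth.Prelude.Def_EGA4Misc

set_option autoImplicit false
set_option linter.style.haveILetI false
universe u
open AlgebraicGeometry CategoryTheory CategoryTheory.Limits

namespace Groth.Agent.Lib.Helper18.ConsP

/-- The fibre over the point of a one-point scheme has the dimension of the source. -/
theorem dim_fiber_of_subsingleton {Y T : Scheme.{u}} (g : Y ⟶ T) [Subsingleton T] (t : T) :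
    topologicalKrullDim ↥(g.fiber t) = topologicalKrullDim ↥Y := by
  have huniv : (g ⁻¹' {t} : Set Y) = Set.univ := by
    ext y
    simp only [Set.mem_preimage, Set.mem_singleton_iff, Set.mem_univ, iff_true]
    exact Subsingleton.elim _ _
  let e : ↥(g.fiber t) ≃ₜ ↥Y :=
    ((g.fiberHomeo t).trans (Homeomorph.setCongr huniv)).trans (Homeomorph.Set.univ Y)
  exact IsHomeomorph.topologicalKrullDim_eq _ e.isHomeomorph

/-- Dimension is invariant under extension of the base "field". -/
theorem dim_eq_of_isPullback {Y Y' T T' : Scheme.{u}} (g : Y ⟶ T) (g' : Y' ⟶ T') (e : Y' ⟶ Y)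
    (h : T' ⟶ T) [Subsingleton T] [Subsingleton T'] [Nonempty T'] [LocallyOfFiniteType g]
    [QuasiCompact g] (hc : IsPullback e g' g h) :
    topologicalKrullDim ↥Y' = topologicalKrullDim ↥Y := by
  obtain ⟨t'⟩ := ‹Nonempty T'›
  have h1 := Groth.Agent.Lib.lead.FibreDimBC.S9777 g h g' e hc t'
  rw [dim_fiber_of_subsingleton, dim_fiber_of_subsingleton] at h1
  exact h1

/-- The fibre dimension is generically constant. -/
theorem exists_open_dim_fiber_eq {X S : Scheme.{u}} (u : X ⟶ S) [IrreducibleSpace S]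
    [LocallyOfFiniteType u] [QuasiCompact u] :
    ∃ V : S.Opens, (V : Set S).Nonempty ∧ ∀ s ∈ V,
      topologicalKrullDim ↥(u.fiber s) = topologicalKrullDim ↥(u.fiber (genericPoint S)) := by
  have hne := Groth.Agent.Lib.Helper24.OpenConst.dim_fiber_ne_top u (genericPoint S)
  generalize hd : topologicalKrullDim ↥(u.fiber (genericPoint S)) = d at hne
  induction d using WithBot.recBotCoe with
  | bot =>
    -- the generic fibre is empty
    have hemp : IsEmpty ↥(u.fiber (genericPoint S)) := by
      by_contra hcon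
      rw [not_isEmpty_iff] at hcon
      obtain ⟨w⟩ := hcon
      unfold topologicalKrullDim at hd
      rw [Order.krullDim_eq_bot_iff] at hd
      exact hd.false ⟨closure {w}, isIrreducible_singleton.closure, isClosed_closure⟩
    have hnot : genericPoint S ∉ u '' Set.univ := by
      rintro ⟨x, -, hx⟩
      exact hemp.false ((u.fiberHomeo (genericPoint S)).symm ⟨x, hx⟩)
    have hcl := Groth.Agent.Lib.lead.GenFibreDim.genericPoint_not_mem_closure_image u Set.univ
      isClosed_univ hnot
    refine ⟨⟨(closure (u '' Set.univ))ᶜ, isClosed_closure.isOpen_compl⟩, ⟨genericPoint S, hcl⟩,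
      fun s hs => ?_⟩
    haveI : IsEmpty ↥(u.fiber s) := by
      refine ⟨fun w => hs (subset_closure ⟨u.fiberι s w, trivial, ?_⟩)⟩
      have : u.fiberι s w ∈ Set.range (u.fiberι s) := ⟨w, rfl⟩
      rw [u.range_fiberι] at this
      exact this
    exact Groth.Agent.Lib.lead.ZeroLocusDim.dim_empty
  | coe d =>
    induction d using ENat.recTopCoe with
    | top => exact absurd rfl hne
    | coe n =>
      obtain ⟨V, hV, hVn⟩ := Groth.Agent.Lib.lead.GenFibreDim.S1332 u n hd
      exact ⟨V, hV, hVn⟩

/-- "The dimension belongs to `Φ`" is a constructible property of algebraic schemes. -/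
theorem isCons_dim_mem (Φ : Set (WithBot ℕ∞)) :
    ConsProp.IsCons (fun Y T g => topologicalKrullDim ↥Y ∈ Φ) := by
  refine ⟨?_, ?_⟩
  · intro Y Y' T T' g g' e h _ _ _ _ _ _ hc
    show topologicalKrullDim ↥Y ∈ Φ ↔ topologicalKrullDim ↥Y' ∈ Φ
    rw [dim_eq_of_isPullback g g' e h hc]
  · intro X S u _ _ _ _
    obtain ⟨V, ⟨s, hs⟩, hV⟩ := exists_open_dim_fiber_eq u
    by_cases hd : topologicalKrullDim ↥(u.fiber (genericPoint S)) ∈ Φ
    · left
      refine ⟨s, mem_interior.2 ⟨V, fun t ht => ?_, V.isOpen, hs⟩⟩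
      show topologicalKrullDim ↥(u.fiber t) ∈ Φ
      rw [hV t ht]
      exact hd
    · right
      refine ⟨s, mem_interior.2 ⟨V, fun t ht => ?_, V.isOpen, hs⟩⟩
      show ¬ topologicalKrullDim ↥(u.fiber t) ∈ Φ
      rw [hV t ht]
      exact hd

end Groth.Agent.Lib.Helper18.ConsP
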